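import Groth.Agent.TorusTorsLib.Ext
import Groth.Agent.AVLib.IdSub
import Groth.Agent.GrpHomLib.Artinian
import Groth.Agent.GrpSchLib.ZeroTangent
import Groth.Agent.S19598
import Groth.Agent.HomRep.Finite
import Groth.Agent.GenSubLib.AlgClosed

/-!
# Closed subgroups of semi-abelian varieties without `ℓ`-torsion are finite
-/

set_option autoImplicit false
set_option backward.isDefEq.respectTransparency false
set_option backward.isDefEq.respectTransparency.types false
set_option linter.style.haveILetI false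
set_option maxHeartbeats 1000000
set_option synthInstance.maxHeartbeats 400000

universe u

open CategoryTheory CategoryTheory.Limits MonoidalCategory CartesianMonoidalCategory MonObj AlgebraicGeometry

noncomputable section

namespace Groth.Agent.TorusTorsLib

/-- Points without `ℓ`-torsion. -/
def NoTorsion {S : Scheme.{u}} (H : Over S) [GrpObj H] (ℓ : ℕ) : Prop :=
  ∀ (Y : Over S) (h : Y ⟶ H), h ^ ℓ = 1 → h = 1

theorem noTorsion_of_mono {S : Scheme.{u}} {H G : Over S} [GrpObj H] [GrpObj G] (j : G ⟶ H) [IsMonHom j] [Mono j]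
    {ℓ : ℕ} (h : NoTorsion H ℓ) : NoTorsion G ℓ := fun Y y hy => by
  rw [← cancel_mono j, MonObj.one_comp]
  exact h Y _ (by rw [← MonObj.pow_comp, hy, MonObj.one_comp])

theorem noTorsion_bc {S S' : Scheme.{u}} (g : S' ⟶ S) {H : Over S} [GrpObj H] {ℓ : ℕ} (h : NoTorsion H ℓ) :
    NoTorsion (Red.bc g H) ℓ := fun Y y hy => by
  let adj := Over.mapPullbackAdj g
  obtain ⟨y', rfl⟩ := (adj.homEquiv Y H).surjective y
  have hone : adj.homEquiv Y H 1 = 1 := by
    rw [Adjunction.homEquiv_unit, Functor.map_one, MonObj.comp_one]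
  have hpow : adj.homEquiv Y H (y' ^ ℓ) = (adj.homEquiv Y H y') ^ ℓ := by
    refine MaxTorus.map_pow_fun (G := Red.bc g H) (fun a => adj.homEquiv Y H a) hone (fun a b => ?_) y' ℓ
    simp only [Adjunction.homEquiv_unit, Functor.map_mul, MonObj.comp_mul]
  rw [h _ y' ((adj.homEquiv Y H).injective (hpow.trans (hy.trans hone.symm))), hone]

/-- A diagonalisable group without `ℓ`-torsion has finite character group. -/
theorem finite_of_noTorsion_DS {L : Type u} [Field L] (M : Type) [AddCommGroup M] [AddGroup.FG M] {ℓ : ℕ}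
    (hℓ : ℓ.Prime) (h : NoTorsion (Red.DS (Spec (CommRingCat.of L)) M) ℓ) : Finite M := by
  classical
  let Q := M ⧸ (nsmulAddMonoidHom (α := M) ℓ).range
  let B : CommRingCat.{u} := CommRingCat.of (MonoidAlgebra L (Multiplicative Q))
  let q : Spec B ⟶ Spec (CommRingCat.of L) := Spec.map (CommRingCat.ofHom (algebraMap L (MonoidAlgebra L (Multiplicative Q))))
  let χ : Multiplicative M →* B :=
    (MonoidAlgebra.of L (Multiplicative Q)).comp (AddMonoidHom.toMultiplicative (QuotientAddGroup.mk' _))
  have hχ : χ ^ ℓ = 1 := by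
    refine MonoidHom.ext fun m => ?_
    show χ m ^ ℓ = 1
    rw [← map_pow]
    show MonoidAlgebra.of L (Multiplicative Q) (Multiplicative.ofAdd (QuotientAddGroup.mk' _ (ℓ • Multiplicative.toAdd m))) = 1
    rw [show QuotientAddGroup.mk' (nsmulAddMonoidHom (α := M) ℓ).range (ℓ • Multiplicative.toAdd m) = 0 from
      (QuotientAddGroup.eq_zero_iff _).2 ⟨_, rfl⟩]
    exact map_one _
  have hχ1 : χ = 1 := by
    apply (DSMapLib.dsPt M q).injective
    rw [map_one]
    exact h _ _ (by rw [← MaxTorus.dsPt_pow, hχ, map_one])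
  have hdiv : ∀ m : M, ∃ m', ℓ • m' = m := fun m => by
    have e : MonoidAlgebra.of L (Multiplicative Q) (Multiplicative.ofAdd (QuotientAddGroup.mk' _ m)) = 1 :=
      DFunLike.congr_fun hχ1 (Multiplicative.ofAdd m)
    have e' := MonoidAlgebra.of_injective (R := L) (e.trans (map_one _).symm)
    exact (QuotientAddGroup.eq_zero_iff m).1 (Multiplicative.ofAdd.injective e')
  haveI : Module.Finite ℤ M := Module.Finite.iff_addGroup_fg.2 inferInstance
  obtain ⟨r, hr1, hr0⟩ := Submodule.exists_sub_one_mem_and_smul_eq_zero_of_fg_of_le_smul (Ideal.span {(ℓ : ℤ)})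
    (⊤ : Submodule ℤ M) Module.Finite.fg_top (fun m _ => by
      obtain ⟨m', rfl⟩ := hdiv m
      rw [← natCast_zsmul]
      exact Submodule.smul_mem_smul (Ideal.subset_span rfl) Submodule.mem_top)
  have hr : r ≠ 0 := fun e => by
    rw [e, zero_sub, neg_mem_iff, Ideal.mem_span_singleton] at hr1
    have := Int.le_of_dvd one_pos hr1
    have := hℓ.two_le
    omega
  refine AddCommGroup.finite_of_fg_isAddTorsion _ fun x => isOfFinAddOrder_iff_zsmul_eq_zero.2
    ⟨r, hr, hr0 x Submodule.mem_top⟩

/-- A finite group algebra gives a finite diagonalisable group. -/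
theorem isFinite_DS (S : Scheme.{u}) (M : Type) [AddCommGroup M] [Finite M] : IsFinite (Red.DS S M).hom := by
  haveI : Finite (Multiplicative M) := ‹Finite M›
  haveI : Module.Finite (ULift.{u} ℤ) (MonoidAlgebra (ULift.{u} ℤ) (Multiplicative M)) :=
    Module.Finite.of_basis (MonoidAlgebra.basis (Multiplicative M) (ULift.{u} ℤ))
  refine MorphismProperty.pullback_snd (P := @IsFinite) _ _ ?_
  show IsFinite (Spec.map (CommRingCat.ofHom (algebraMap (ULift.{u} ℤ) (MonoidAlgebra (ULift.{u} ℤ) (Multiplicative M)))))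
  exact (IsFinite.SpecMap_iff _).2 (RingHom.finite_algebraMap.2 inferInstance)

variable {k : Type u} [Field k]

/-- Closed subgroups of tori without `ℓ`-torsion are finite. -/
theorem isFinite_sub_torus {D T : Over (Spec (CommRingCat.of k))} [GrpObj D] [GrpObj T] (hT : Red.IsTorus T)
    (j : D ⟶ T) [IsMonHom j] [IsClosedImmersion j.left] [LocallyOfFiniteType D.hom] {ℓ : ℕ} (hℓ : ℓ.Prime)
    (h : NoTorsion D ℓ) : IsFinite D.hom := by
  have hT' : SGA3x.IsMultTypeFT T := by
    obtain ⟨S', f, hf, hs, hq, hloc⟩ := hT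
    refine ⟨S', f, hf, hs, hq, fun s' => ?_⟩
    obtain ⟨U, hU, r, he⟩ := hloc s'
    exact ⟨U, hU, Fin r → ℤ, inferInstance, Module.Finite.iff_addGroup_fg.1 inferInstance, he⟩
  obtain ⟨S', f, -, hsurj, -, hloc⟩ := S19598.result D T hT' j ‹_› inferInstance inferInstance
  obtain ⟨s', -⟩ := hsurj.1 (default : PrimeSpectrum k)
  obtain ⟨U, hsU, M, iM, hM, ⟨e⟩⟩ := hloc s'
  letI := iM
  haveI := hM
  let L := U.toScheme.residueField ⟨s', hsU⟩
  let p : Spec (CommRingCat.of L) ⟶ U.toScheme := U.toScheme.fromSpecResidueField ⟨s', hsU⟩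
  let g : Spec (CommRingCat.of L) ⟶ Spec (CommRingCat.of k) := p ≫ U.ι ≫ f
  let e' : Grp.mk (Red.bc g D) ≅ Grp.mk (Red.DS (Spec (CommRingCat.of L)) M) :=
    (HomDesc.bcGrpIso p (U.ι ≫ f) rfl D).symm ≪≫ (Over.pullback p).mapGrp.mapIso e ≪≫
      HomDesc.bcGrpIso p _ (specULiftZIsTerminal.hom_ext _ _) (Red.diag (ULift.{u} ℤ) M)
  haveI : IsMonHom e'.inv.hom.hom := e'.inv.hom.isMonHom_hom
  let c : Red.bc g D ≅ Red.DS (Spec (CommRingCat.of L)) M := (Grp.forget _).mapIso e'
  haveI : IsMonHom c.inv := e'.inv.hom.isMonHom_hom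
  haveI : Finite M := finite_of_noTorsion_DS M hℓ (noTorsion_of_mono c.inv (noTorsion_bc g h))
  haveI : Surjective g := ⟨fun _ => ⟨default, Subsingleton.elim (α := PrimeSpectrum k) _ _⟩⟩
  haveI : Flat g := inferInstance
  haveI : QuasiCompact g := inferInstance
  have h1 : IsFinite (pullback.snd D.hom g) :=
    FixedSmooth.hom_of_grpIso (A := Red.bc g D) e' @IsFinite (isFinite_DS _ M)
  exact FpqcDesc.isFinite_descends.of_isPullback (IsPullback.of_hasPullback D.hom g).flip ⟨⟨‹_›, ‹_›⟩, ‹_›⟩ h1

variable [IsAlgClosed k]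

omit [IsAlgClosed k] in
/-- An abelian variety without `ℓ`-torsion is zero dimensional. -/
theorem dim_zero_of_noTorsion {C : Over (Spec (CommRingCat.of k))} [GrpObj C] [IsProper C.hom]
    [GeometricallyIntegral C.hom] {ℓ : ℕ} (hℓ : ℓ.Prime) (h : NoTorsion C ℓ) : topologicalKrullDim C.left = 0 := by
  haveI : Subsingleton ↥(Spec (CommRingCat.of k)) := inferInstanceAs (Subsingleton (PrimeSpectrum k))
  haveI : IsIntegral C.left := GeometricallyIntegral.isIntegral_of_subsingleton C.hom
  obtain ⟨g, -, hg⟩ := FlatDim.topologicalKrullDim_closure k C.hom (genericPoint C.left)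
  rw [(genericPoint_spec C.left).def, (Homeomorph.Set.univ ↥C.left).isHomeomorph.topologicalKrullDim_eq] at hg
  obtain ⟨h1, h2, h3⟩ := AVLib.npow_spec (A := C) (g := g) (by rw [hg]) ℓ hℓ.one_le
  let K0 := pullback ((𝟙 C) ^ ℓ) η[C]
  have hfst : pullback.fst ((𝟙 C) ^ ℓ) η[C] = 1 := by
    refine h K0 _ ?_
    have := pullback.condition (f := (𝟙 C) ^ ℓ) (g := η[C])
    rw [MonObj.comp_pow, Category.comp_id] at this
    rw [this, toUnit_unique (pullback.snd ((𝟙 C) ^ ℓ) η[C]) (toUnit _)]
    exact Hom.one_def.symm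
  let l : 𝟙_ (Over (Spec (CommRingCat.of k))) ⟶ K0 := pullback.lift η[C] (𝟙 _) (by
    rw [MonObj.comp_pow, Category.comp_id, show η[C] = (1 : 𝟙_ (Over (Spec (CommRingCat.of k))) ⟶ C) by simp [Hom.one_def],
      one_pow, Hom.one_def]
    simp)
  haveI : IsIso (pullback.snd ((𝟙 C) ^ ℓ) η[C]) := ⟨l, pullback.hom_ext (by
      rw [Category.assoc, pullback.lift_fst, Category.id_comp, hfst, Hom.one_def,
        toUnit_unique (toUnit _) (pullback.snd ((𝟙 C) ^ ℓ) η[C])])
    (by rw [Category.assoc, pullback.lift_snd, Category.comp_id, Category.id_comp]), pullback.lift_snd _ _ _⟩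
  haveI : IsIso (pullback.snd ((𝟙 C) ^ ℓ) η[C]).left := inferInstanceAs (IsIso ((Over.forget _).map _))
  have sq := left_isPullback (IsPullback.of_hasPullback ((𝟙 C) ^ ℓ) η[C])
  haveI := h1
  haveI := h2
  have e := Scheme.Hom.finrank_of_isPullback _ _ _ _ sq (default : PrimeSpectrum k)
  rw [h3, Scheme.Hom.finrank_eq_one_of_isIso] at e
  have hg0 : g = 0 := by
    rcases Nat.pow_eq_one.1 e.symm with h4 | h4
    · exact absurd h4 hℓ.one_lt.ne'
    · omega
  rw [hg, hg0]
  rfl

/-- The main statement, over an algebraically closed field. -/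
theorem isFinite_of_noTorsion {G T A H : Over (Spec (CommRingCat.of k))} [GrpObj G] [GrpObj T] [GrpObj A] [GrpObj H]
    [QuasiCompact G.hom] [LocallyOfFiniteType G.hom] (i : T ⟶ G) [IsMonHom i] [IsClosedImmersion i.left]
    (hT : Red.IsTorus T) (q : G ⟶ A) [IsMonHom q] (hker : AlgGrp.IsKernel i q) [IsProper A.hom]
    (j : H ⟶ G) [IsMonHom j] [IsClosedImmersion j.left] {ℓ : ℕ} (hℓ : ℓ.Prime) (htors : NoTorsion H ℓ) :
    IsFinite H.hom := by
  haveI : LocallyOfFiniteType H.hom := by rw [← Over.w j]; infer_instance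
  haveI : QuasiCompact H.hom := by rw [← Over.w j]; infer_instance
  haveI : Mono j := Over.mono_of_mono_left j
  haveI : Mono i := Over.mono_of_mono_left i
  let u : H ⟶ A := j ≫ q
  haveI : QuasiCompact u.left := by
    haveI : QuasiCompact (u.left ≫ A.hom) := by rw [Over.w u]; infer_instance
    exact QuasiCompact.of_comp u.left A.hom
  obtain ⟨hD, hd⟩ := GrpQuotLib.exists_grpObj_kernel u
  let D := pullback u η[A]
  letI : GrpObj D := hD
  let d : D ⟶ H := pullback.fst u η[A]
  haveI : IsMonHom d := hd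
  haveI : IsClosedImmersion η[A].left := GrpSchLib.isClosedImmersion_unit
  have hsq := GrpQuotLib.isPullback_left (IsPullback.of_hasPullback u η[A])
  haveI : IsClosedImmersion d.left := MorphismProperty.of_isPullback hsq.flip ‹IsClosedImmersion η[A].left›
  haveI : Mono d := Over.mono_of_mono_left d
  haveI : LocallyOfFiniteType D.hom := by rw [← Over.w d]; infer_instance
  let v : D ⟶ T := hker.lift (d ≫ j) (toUnit D) (by
    rw [Category.assoc, toUnit_unique (toUnit D) (pullback.snd u η[A])]
    exact pullback.condition)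
  have hv : v ≫ i = d ≫ j := hker.lift_fst _ _ _
  haveI : IsMonHom v :=
    ⟨by rw [← cancel_mono i, Category.assoc, hv, IsMonHom.one_hom, IsMonHom.one_hom],
      by rw [← cancel_mono i, Category.assoc, hv, IsMonHom.mul_hom, Category.assoc, IsMonHom.mul_hom,
        MonoidalCategory.tensorHom_comp_tensorHom_assoc, hv]⟩
  haveI : IsClosedImmersion v.left := by
    haveI : IsClosedImmersion (v.left ≫ i.left) := by rw [← Over.comp_left, hv, Over.comp_left]; infer_instance
    exact IsClosedImmersion.of_comp v.left i.left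
  haveI hDfin : IsFinite D.hom := isFinite_sub_torus hT v hℓ (noTorsion_of_mono d htors)
  haveI : IsFinite u.left := by
    refine GrpHomLib.isFinite_of_ker u ?_
    rw [← IsPullback.isoPullback_inv_snd hsq]
    haveI : IsFinite (pullback.snd u η[A]).left := by
      rw [show (pullback.snd u η[A]).left = D.hom from
        (Category.comp_id _).symm.trans (Over.w (pullback.snd u η[A]))]
      exact hDfin
    infer_instance
  haveI : IsProper H.hom := by rw [← Over.w u]; infer_instance
  -- the identity component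
  obtain ⟨C, hC, c, hc, hcc, hCp, hCi, hr⟩ := AVLib.exists_idSubgroup (G := H)
  letI := hC
  haveI := hc; haveI := hcc; haveI := hCp; haveI := hCi
  haveI : Mono c := Over.mono_of_mono_left c
  have hdim := dim_zero_of_noTorsion hℓ (noTorsion_of_mono c htors)
  have hpt : ∀ x ∈ GrpSchLib.idComp H, x = GrpSchLib.unitPt H := by
    haveI : Subsingleton ↥(Spec (CommRingCat.of k)) := inferInstanceAs (Subsingleton (PrimeSpectrum k))
    haveI : IsIntegral C.left := GeometricallyIntegral.isIntegral_of_subsingleton C.hom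
    have hsub : ∀ z w : C.left, z = w := fun z w => by
      have hz := GrpSchLib.isClosed_of_dim_zero (G := C) hdim (genericPoint C.left)
      have key : ∀ t : C.left, t = genericPoint C.left := fun t =>
        Set.mem_singleton_iff.1 (((genericPoint_spec C.left).specializes trivial).mem_closed hz rfl)
      rw [key z, key w]
    intro x hx
    rw [← hr] at hx
    obtain ⟨z, rfl⟩ := hx
    rw [hsub z (η[C].left (IsLocalRing.closedPoint k)), ← Scheme.Hom.comp_apply, ← Over.comp_left, IsMonHom.one_hom]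
  have hcl : IsClosed ({GrpSchLib.unitPt H} : Set H.left) := GenSubLib.isClosed_pt η[H]
  have hH : topologicalKrullDim H.left = 0 := by
    rw [← GrpSchLib.ringKrullDim_stalk_eq_topologicalKrullDim H _ hcl, ringKrullDim_stalk_eq_coheight,
      show Order.coheight (GrpSchLib.unitPt H) = 0 from Order.coheight_eq_zero.2 fun z hz => ?_]
    · rfl
    · have hzu : z ⤳ GrpSchLib.unitPt H := Scheme.le_iff_specializes.1 hz
      have : z ∈ GrpSchLib.idComp H :=
        GrpSchLib.subset_irreducibleComponent (isIrreducible_singleton (x := z)).closure hzu.mem_closure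
          (subset_closure rfl)
      rw [hpt z this]
  haveI : LocallyQuasiFinite H.hom := by
    haveI : T1Space H.left := ⟨fun x => GrpSchLib.isClosed_of_dim_zero (G := H) hH x⟩
    haveI : IsLocallyNoetherian H.left := LocallyOfFiniteType.isLocallyNoetherian H.hom
    haveI : CompactSpace H.left := QuasiCompact.compactSpace_of_compactSpace H.hom
    haveI : IsNoetherian H.left := ⟨⟩
    haveI : Finite H.left := by
      have hf := TopologicalSpace.NoetherianSpace.finite_irreducibleComponents (α := H.left)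
      refine Set.finite_univ_iff.1 ((hf.sUnion fun W hW => ?_).subset fun x _ =>
        Set.mem_sUnion.2 ⟨_, irreducibleComponent_mem_irreducibleComponents x, mem_irreducibleComponent⟩)
      obtain ⟨z, hz⟩ := QuasiSober.sober hW.1 (isClosed_of_mem_irreducibleComponents W hW)
      rw [← hz.def, isClosed_singleton.closure_eq]
      exact Set.finite_singleton z
    exact locallyQuasiFinite_iff_finite_preimage_singleton.mpr fun _ => Set.toFinite _
  rw [IsFinite.iff_isProper_and_locallyQuasiFinite]
  exact ⟨inferInstance, inferInstance⟩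

end Groth.Agent.TorusTorsLib
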