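import Groth.Prelude.Def_Mor2
import Mathlib

/-!
# Degrees multiply under composition, over a field
-/

set_option autoImplicit false
set_option linter.style.haveILetI false

universe u

open CategoryTheory AlgebraicGeometry TensorProduct

noncomputable section

namespace Groth.Agent.TorusTorsLib

theorem finrank_tower (k B C : Type u) [Field k] [CommRing B] [CommRing C] [Algebra k B] [Algebra k C] [Algebra B C]
    [IsScalarTower k B C] [Module.Finite k B] [Module.Finite B C] [Module.Flat B C] (d : ℕ)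
    (hd : ∀ p, Module.rankAtStalk (R := B) C p = d) :
    Module.finrank k C = d * Module.finrank k B := by
  rcases subsingleton_or_nontrivial B with h | h
  · haveI : Subsingleton C := (algebraMap B C).codomain_trivial
    rw [Module.finrank_zero_of_subsingleton, Module.finrank_zero_of_subsingleton, mul_zero]
  haveI : IsArtinianRing B := .of_finite k B
  haveI : Module.Free B C := Module.free_of_flat_of_finrank_eq B C d fun P => by
    letI := Ideal.Quotient.field P.1
    rw [← hd ((⊥ : PrimeSpectrum (B ⧸ P.1)).comap (algebraMap B (B ⧸ P.1))), ← Module.rankAtStalk_baseChange,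
      Module.rankAtStalk_eq_finrank_of_free]
    rfl
  obtain ⟨p⟩ := (inferInstance : Nonempty (PrimeSpectrum B))
  rw [← Module.finrank_mul_finrank k B C, mul_comm, ← hd p, Module.rankAtStalk_eq_finrank_of_free]
  rfl

theorem deg_comp_Spec {k B C : Type u} [Field k] [CommRing B] [CommRing C] (b : k →+* B) (c : B →+* C) {d e : ℕ}
    (hc : Mor2.IsFinLocFreeOfDeg d (Spec.map (CommRingCat.ofHom c)))
    (hb : Mor2.IsFinLocFreeOfDeg e (Spec.map (CommRingCat.ofHom b))) :
    Mor2.IsFinLocFreeOfDeg (d * e) (Spec.map (CommRingCat.ofHom c) ≫ Spec.map (CommRingCat.ofHom b)) := by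
  algebraize [b, c, c.comp b]
  obtain ⟨⟨hc1, hc2, hc3⟩, hc4⟩ := hc
  obtain ⟨⟨hb1, hb2, hb3⟩, hb4⟩ := hb
  haveI : Module.Finite k B := RingHom.finite_algebraMap.1 ((IsFinite.SpecMap_iff _).1 hb1)
  haveI : Module.Finite B C := RingHom.finite_algebraMap.1 ((IsFinite.SpecMap_iff _).1 hc1)
  haveI : Module.Flat B C := RingHom.flat_algebraMap_iff.1 (Flat.SpecMap_iff.1 hc2)
  haveI : Module.Finite k C := Module.Finite.trans B C
  refine ⟨⟨MorphismProperty.comp_mem _ _ _ hc1 hb1, MorphismProperty.comp_mem _ _ _ hc2 hb2,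
    MorphismProperty.comp_mem _ _ _ hc3 hb3⟩, fun x => ?_⟩
  rw [← Spec.map_comp, ← CommRingCat.ofHom_comp]
  show Scheme.Hom.finrank (Spec.map (CommRingCat.ofHom (algebraMap k C))) x = _
  erw [Scheme.Hom.finrank_SpecMap_algebraMap, Module.rankAtStalk_eq_finrank_of_free]
  have he : Module.finrank k B = e := by
    have h := hb4 x
    change Scheme.Hom.finrank (Spec.map (CommRingCat.ofHom (algebraMap k B))) x = e at h
    erw [Scheme.Hom.finrank_SpecMap_algebraMap, Module.rankAtStalk_eq_finrank_of_free] at h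
    exact h
  rw [← he, ← finrank_tower k B C d fun p => by
    rw [← hc4 p]
    exact (Scheme.Hom.finrank_SpecMap_algebraMap B C p).symm]
  rfl

theorem deg_iso_iff {X Y Z : Scheme.{u}} (i : X ⟶ Y) [IsIso i] (g : Y ⟶ Z) {d : ℕ} (h : Mor2.IsFinLocFreeOfDeg d g) :
    Mor2.IsFinLocFreeOfDeg d (i ≫ g) := by
  obtain ⟨⟨h1, h2, h3⟩, h4⟩ := h
  haveI := h1
  haveI := h2
  exact ⟨⟨inferInstance, inferInstance, MorphismProperty.comp_mem _ i g inferInstance h3⟩,
    fun y => by rw [Scheme.Hom.finrank_comp_left_of_isIso]; exact h4 y⟩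

theorem deg_comp_field {k : Type u} [Field k] {X Y : Scheme.{u}} (f : X ⟶ Y) (g : Y ⟶ Spec (CommRingCat.of k))
    {d e : ℕ} (hf : Mor2.IsFinLocFreeOfDeg d f) (hg : Mor2.IsFinLocFreeOfDeg e g) :
    Mor2.IsFinLocFreeOfDeg (d * e) (f ≫ g) := by
  haveI : IsFinite f := hf.1.1
  haveI : Flat f := hf.1.2.1
  haveI : IsFinite g := hg.1.1
  haveI : IsAffine Y := isAffine_of_isAffineHom g
  haveI : IsAffine X := isAffine_of_isAffineHom f
  let eX := X.isoSpec
  let eY := Y.isoSpec
  let c := Spec.preimage (eX.inv ≫ f ≫ eY.hom)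
  let b := Spec.preimage (eY.inv ≫ g)
  have hc : Mor2.IsFinLocFreeOfDeg d (Spec.map c) := by
    rw [Spec.map_preimage]
    refine deg_iso_iff eX.inv _ ?_
    have sq : IsPullback (𝟙 X) (f ≫ eY.hom) f eY.inv := IsPullback.of_horiz_isIso ⟨by simp⟩
    exact ⟨⟨MorphismProperty.of_isPullback (P := @IsFinite) sq hf.1.1, MorphismProperty.of_isPullback (P := @Flat) sq hf.1.2.1,
      MorphismProperty.of_isPullback (P := @LocallyOfFinitePresentation) sq hf.1.2.2⟩,
      fun y => (Scheme.Hom.finrank_of_isPullback _ _ _ _ sq y).trans (hf.2 _)⟩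
  have hb : Mor2.IsFinLocFreeOfDeg e (Spec.map b) := by
    rw [Spec.map_preimage]
    exact deg_iso_iff eY.inv _ hg
  have h := deg_iso_iff eX.hom _ (deg_comp_Spec b.hom c.hom hc hb)
  rw [CommRingCat.ofHom_hom, CommRingCat.ofHom_hom, Spec.map_preimage, Spec.map_preimage] at h
  simpa [eX, eY] using h

end Groth.Agent.TorusTorsLib
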