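import Groth.Agent.TorusTorsLib.Torus
import Groth.Agent.TorusTorsLib.CompDeg
import Groth.Agent.AVLib.Deg.AV
import Groth.Agent.AVLib.GeomInt
import Groth.Prelude.Def_AlgGrp

/-!
# Torsion of an extension of an abelian variety by a torus
-/

set_option autoImplicit false
set_option backward.isDefEq.respectTransparency false
set_option linter.style.haveILetI false
set_option maxHeartbeats 800000
set_option synthInstance.maxHeartbeats 400000

universe u

open CategoryTheory CategoryTheory.Limits MonoidalCategory CartesianMonoidalCategory MonObj AlgebraicGeometry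

noncomputable section

namespace Groth.Agent.TorusTorsLib

/-- A pullback square in `Over S` is one on underlying schemes. -/
theorem left_isPullback {S : Scheme.{u}} {W X Y Z : Over S} {a : W ⟶ X} {b : W ⟶ Y} {c : X ⟶ Z} {d : Y ⟶ Z}
    (h : IsPullback a b c d) : IsPullback a.left b.left c.left d.left :=
  h.map (Over.forget S)

section

variable {C : Type*} [Category C] [CartesianMonoidalCategory C] {T A : C}

/-- Base change of a map along a projection. -/
theorem isPullback_whisker (G : C) (f : T ⟶ A) : IsPullback (G ◁ f) (snd G T) (snd G A) f :=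
  IsPullback.of_isLimit' ⟨whiskerLeft_snd G f⟩ (PullbackCone.IsLimit.mk _
    (fun s => lift (s.fst ≫ fst G A) s.snd)
    (fun s => CartesianMonoidalCategory.hom_ext _ _ (by simp) (by simp [← s.condition]))
    (fun s => by simp)
    (fun s m h1 h2 => CartesianMonoidalCategory.hom_ext _ _ (by simp [← h1]) (by simp [← h2])))

end

variable {k : Type u} [Field k] {G T B : Over (Spec (CommRingCat.of k))} [GrpObj G] [IsCommMonObj G] [GrpObj T]
  [GrpObj B]

omit [GrpObj G] [IsCommMonObj G] [GrpObj T] in
theorem comp_q {i : T ⟶ G} {q : G ⟶ B} (hk : AlgGrp.IsKernel i q) {W : Over (Spec (CommRingCat.of k))} (t : W ⟶ T) :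
    (t ≫ i) ≫ q = 1 := by
  rw [Category.assoc, hk.w, ← Category.assoc, Subsingleton.elim (t ≫ toUnit T) (toUnit W)]
  exact Hom.one_def.symm

omit [GrpObj G] [IsCommMonObj G] [GrpObj T] in
theorem exists_eq_comp {i : T ⟶ G} {q : G ⟶ B} (hk : AlgGrp.IsKernel i q) {W : Over (Spec (CommRingCat.of k))}
    (x : W ⟶ G) (hx : x ≫ q = 1) : ∃ t : W ⟶ T, t ≫ i = x :=
  ⟨hk.lift x (toUnit W) (hx.trans Hom.one_def), hk.lift_fst _ _ _⟩

theorem spec (i : T ⟶ G) [IsMonHom i] [IsClosedImmersion i.left] (hT : Red.IsTorus T)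
    (q : G ⟶ B) [IsMonHom q] [Surjective q.left] [Flat q.left] [QuasiCompact G.hom] (hk : AlgGrp.IsKernel i q)
    [IsProper B.hom] [GeometricallyIntegral B.hom]
    {t a : ℕ} (ht : topologicalKrullDim ↥T.left = t) (ha : topologicalKrullDim ↥B.left = a)
    {N : ℕ} (hN : 0 < N)
    (K : Over (Spec (CommRingCat.of k))) [GrpObj K] (κ : K ⟶ G)
    (hK : AlgGrp.IsKernel κ ((𝟙 G) ^ N)) :
    Mor2.IsFinLocFreeOfDeg (N ^ (t + 2 * a)) K.hom := by
  haveI : Mono i := (Over.forget _).mono_of_mono_map (inferInstanceAs (Mono i.left))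
  letI : CommGroup (G ⊗ T ⟶ G) := Hom.commGroup
  let p : B ⟶ B := (𝟙 B) ^ N
  let P := pullback q p
  let φ : G ⟶ P := pullback.lift ((𝟙 G) ^ N) q
    (by simp only [p, MonObj.pow_comp, MonObj.comp_pow, Category.id_comp, Category.comp_id])
  let m : G ⊗ T ⟶ G := fst G T * (snd G T ≫ i)
  let ψ : G ⊗ T ⟶ P := pullback.lift ((fst G T) ^ N * (snd G T ≫ i)) (fst G T ≫ q)
    (by simp only [p, MonObj.mul_comp, MonObj.pow_comp, comp_q hk, _root_.mul_one, MonObj.comp_pow, Category.comp_id])
  let h : G ⊗ T ⟶ G ⊗ T := G ◁ ((𝟙 T) ^ N)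
  have hh2 : ∀ {W : Over (Spec (CommRingCat.of k))} (l : W ⟶ G ⊗ T),
      (l ≫ h) ≫ snd G T = (l ≫ snd G T) ^ N := fun l => by
    rw [Category.assoc, whiskerLeft_snd, MonObj.comp_pow, MonObj.comp_pow, Category.comp_id]
  -- the first square: `φ` becomes the power map of the torus
  have sq1 : IsPullback m h φ ψ := by
    refine IsPullback.of_isLimit' ⟨pullback.hom_ext ?_ ?_⟩ ?_
    · simp only [Category.assoc, φ, ψ, m, pullback.lift_fst, MonObj.comp_pow, MonObj.comp_mul, Category.comp_id, h,
        whiskerLeft_fst, whiskerLeft_snd_assoc, _root_.mul_pow]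
      congr 1
      simp only [MonObj.pow_comp, MonObj.comp_pow, Category.id_comp]
    · simp only [Category.assoc, φ, ψ, m, pullback.lift_snd, MonObj.mul_comp, h, whiskerLeft_fst_assoc, comp_q hk,
        _root_.mul_one]
    · have key : ∀ s : PullbackCone φ ψ, ∃ x : s.pt ⟶ T, x ≫ i = (s.snd ≫ fst G T)⁻¹ * s.fst := fun s => by
        refine exists_eq_comp hk _ ?_
        have e := congrArg (· ≫ pullback.snd q p) s.condition
        simp only [Category.assoc, φ, ψ, pullback.lift_snd] at e
        rw [MonObj.mul_comp, GrpObj.inv_comp, Category.assoc, ← e, inv_mul_cancel]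
      choose x hx using key
      refine PullbackCone.IsLimit.mk _ (fun s => lift (s.snd ≫ fst G T) (x s)) (fun s => ?_) (fun s => ?_)
        (fun s l h1 h2 => ?_)
      · simp only [m, MonObj.comp_mul, lift_fst, lift_snd_assoc, hx, mul_inv_cancel_left]
      · refine CartesianMonoidalCategory.hom_ext _ _ ?_ ?_
        · simp only [h, Category.assoc, whiskerLeft_fst, lift_fst]
        · rw [hh2, lift_snd, ← cancel_mono i, MonObj.pow_comp, hx]
          have e := congrArg (· ≫ pullback.fst q p) s.condition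
          simp only [Category.assoc, φ, ψ, pullback.lift_fst, MonObj.comp_pow, MonObj.comp_mul, Category.comp_id] at e
          letI : CommGroup (s.pt ⟶ G) := Hom.commGroup
          rw [_root_.mul_pow, inv_pow, e, inv_mul_cancel_left]
          exact (Category.assoc _ _ _).symm
      · have e1 : l ≫ fst G T = s.snd ≫ fst G T := by rw [← h2]; simp [h]
        refine CartesianMonoidalCategory.hom_ext _ _ (by simp [e1]) ?_
        rw [lift_snd, ← cancel_mono i, hx, eq_inv_mul_iff_mul_eq, ← e1, Category.assoc]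
        rw [← h1]
        simp only [m, MonObj.comp_mul]
  -- the second square: `ψ` is a base change of `q`
  have sq2 : IsPullback (fst G T) ψ q (pullback.snd q p) := by
    refine IsPullback.of_isLimit' ⟨by simp [ψ]⟩ ?_
    have key : ∀ s : PullbackCone q (pullback.snd q p),
        ∃ x : s.pt ⟶ T, x ≫ i = (s.fst ^ N)⁻¹ * (s.snd ≫ pullback.fst q p) := fun s => by
      refine exists_eq_comp hk _ ?_
      rw [MonObj.mul_comp, GrpObj.inv_comp, MonObj.pow_comp, Category.assoc, pullback.condition, ← Category.assoc,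
        ← s.condition]
      simp only [p, MonObj.comp_pow, Category.comp_id, inv_mul_cancel]
    choose x hx using key
    refine PullbackCone.IsLimit.mk _ (fun s => lift s.fst (x s)) (fun s => lift_fst _ _) (fun s => ?_)
      (fun s l h1 h2 => ?_)
    · refine pullback.hom_ext ?_ ?_
      · simp only [Category.assoc, ψ, pullback.lift_fst, MonObj.comp_mul, MonObj.comp_pow, lift_fst, lift_snd_assoc,
          hx, mul_inv_cancel_left]
      · simp only [Category.assoc, ψ, pullback.lift_snd, lift_fst_assoc, s.condition]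
    · refine CartesianMonoidalCategory.hom_ext _ _ (by rw [lift_fst, h1]) ?_
      rw [lift_snd, ← cancel_mono i, hx, eq_inv_mul_iff_mul_eq, ← h2, ← h1]
      simp only [Category.assoc, ψ, pullback.lift_fst, MonObj.comp_mul, MonObj.comp_pow]
  -- properties
  have hqc : QuasiCompact q.left := by
    haveI : QuasiCompact (q.left ≫ B.hom) := by rw [Over.w]; infer_instance
    exact QuasiCompact.of_comp q.left B.hom
  obtain ⟨⟨ht1, ht2, ht3⟩, ht4⟩ := isFinLocFreeOfDeg_pow hT ht hN
  have sqh := left_isPullback (isPullback_whisker G ((𝟙 T) ^ N)).flip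
  have hh : Mor2.IsFinLocFreeOfDeg (N ^ t) h.left := by
    haveI := ht1
    haveI := ht2
    exact ⟨⟨MorphismProperty.of_isPullback (P := @IsFinite) sqh ht1, MorphismProperty.of_isPullback (P := @Flat) sqh ht2,
      MorphismProperty.of_isPullback (P := @LocallyOfFinitePresentation) sqh ht3⟩,
      fun y => (Scheme.Hom.finrank_of_isPullback _ _ _ _ sqh y).trans (ht4 _)⟩
  haveI := (S9867.result.{u}).2 (N ^ t)
  have hψ : (@Surjective ⊓ @Flat ⊓ @QuasiCompact : MorphismProperty Scheme.{u}) ψ.left :=
    ⟨⟨MorphismProperty.of_isPullback (P := @Surjective) (left_isPullback sq2) inferInstance,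
      MorphismProperty.of_isPullback (P := @Flat) (left_isPullback sq2) inferInstance⟩,
      MorphismProperty.of_isPullback (P := @QuasiCompact) (left_isPullback sq2) hqc⟩
  have hφ : Mor2.IsFinLocFreeOfDeg (N ^ t) φ.left :=
    MorphismProperty.of_isPullback_of_descendsAlong
      (P := (fun _ _ f => Mor2.IsFinLocFreeOfDeg (N ^ t) f : MorphismProperty Scheme.{u}))
      (Q := (@Surjective ⊓ @Flat ⊓ @QuasiCompact : MorphismProperty Scheme.{u}))
      (left_isPullback sq1).flip hψ hh
  -- the kernel
  let e₁ : pullback q p ⟶ G := pullback.fst q p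
  let Q := pullback e₁ η[G]
  let jK : K ⟶ Q := pullback.lift (κ ≫ φ) (toUnit K) (by
    rw [Category.assoc, show φ ≫ e₁ = (𝟙 G) ^ N from pullback.lift_fst _ _ _]
    exact hK.w)
  have big : IsPullback κ (jK ≫ pullback.snd e₁ η[G]) (φ ≫ e₁) η[G] := by
    rw [pullback.lift_snd, show φ ≫ e₁ = (𝟙 G) ^ N from pullback.lift_fst _ _ _]
    exact hK
  have sq3 : IsPullback κ jK φ (pullback.fst e₁ η[G]) :=
    IsPullback.of_bot big (pullback.lift_fst _ _ _).symm (IsPullback.of_hasPullback e₁ η[G])
  have hj : Mor2.IsFinLocFreeOfDeg (N ^ t) jK.left := by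
    haveI := hφ.1.1
    haveI := hφ.1.2.1
    exact ⟨⟨MorphismProperty.of_isPullback (P := @IsFinite) (left_isPullback sq3) hφ.1.1,
      MorphismProperty.of_isPullback (P := @Flat) (left_isPullback sq3) hφ.1.2.1,
      MorphismProperty.of_isPullback (P := @LocallyOfFinitePresentation) (left_isPullback sq3) hφ.1.2.2⟩,
      fun y => (Scheme.Hom.finrank_of_isPullback _ _ _ _ (left_isPullback sq3) y).trans (hφ.2 _)⟩
  obtain ⟨hp1, hp2, hp3⟩ := AVLib.npow_spec ha N hN
  have hp4 : LocallyOfFinitePresentation p.left := by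
    haveI : IsLocallyNoetherian B.left := LocallyOfFiniteType.isLocallyNoetherian B.hom
    haveI : IsFinite p.left := hp1
    infer_instance
  have sq4 : IsPullback ((pullback.fst e₁ η[G]).left ≫ (pullback.snd q p).left) (pullback.snd e₁ η[G]).left p.left
      ((η[G]).left ≫ q.left) :=
    (left_isPullback (IsPullback.of_hasPullback e₁ η[G])).paste_horiz (left_isPullback (IsPullback.of_hasPullback q p).flip)
  have hQ : Mor2.IsFinLocFreeOfDeg (N ^ (2 * a)) (pullback.snd e₁ η[G]).left := by
    haveI : IsFinite p.left := hp1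
    haveI : Flat p.left := hp2
    exact ⟨⟨MorphismProperty.of_isPullback (P := @IsFinite) sq4 hp1, MorphismProperty.of_isPullback (P := @Flat) sq4 hp2,
      MorphismProperty.of_isPullback (P := @LocallyOfFinitePresentation) sq4 hp4⟩,
      fun y => (Scheme.Hom.finrank_of_isPullback _ _ _ _ sq4 y).trans (hp3 _)⟩
  have hfin := deg_comp_field jK.left (pullback.snd e₁ η[G]).left hj hQ
  rw [← Over.comp_left, pullback.lift_snd, ← pow_add] at hfin
  exact hfin

end Groth.Agent.TorusTorsLib
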