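import Groth.Prelude.Def_Red2
import Groth.Prelude.Def_Mor2
import Groth.Agent.FixedSmooth.Cover
import Groth.Agent.DSMapLib.Pts
import Mathlib

/-!
# Maps of diagonalisable groups with finite cokernel are finite locally free
-/

set_option autoImplicit false
set_option backward.isDefEq.respectTransparency false
set_option backward.isDefEq.respectTransparency.types false
set_option linter.style.haveILetI false

universe u

open CategoryTheory CategoryTheory.Limits MonoidalCategory CartesianMonoidalCategory MonObj AlgebraicGeometry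

noncomputable section

namespace Groth.Agent.TorusTorsLib

variable (R : Type u) [CommRing R] {M : Type} [AddCommGroup M]

local notation "A[" R "," M "]" => MonoidAlgebra R (Multiplicative M)

/-- The group algebra seen as an algebra over itself via an endomorphism of the group. -/
def Tw (_φ : M →+ M) : Type u := MonoidAlgebra R (Multiplicative M)

instance (φ : M →+ M) : CommRing (Tw R φ) := inferInstanceAs (CommRing (MonoidAlgebra R (Multiplicative M)))

instance (φ : M →+ M) : Algebra (MonoidAlgebra R (Multiplicative M)) (Tw R φ) :=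
  RingHom.toAlgebra (S := Tw R φ) (MonoidAlgebra.mapDomainAlgHom R R (AddMonoidHom.toMultiplicative φ)).toRingHom

/-- A monomial of the twisted algebra. -/
def mono (φ : M →+ M) (m : M) (r : R) : Tw R φ := MonoidAlgebra.single (Multiplicative.ofAdd m) r

variable {R}

theorem single_smul_mono (φ : M →+ M) (m n : M) (r s : R) :
    (MonoidAlgebra.single (Multiplicative.ofAdd m) r : MonoidAlgebra R (Multiplicative M)) • mono R φ n s =
      mono R φ (φ m + n) (r * s) := by
  show MonoidAlgebra.mapDomain _ (MonoidAlgebra.single (Multiplicative.ofAdd m) r) *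
    MonoidAlgebra.single (Multiplicative.ofAdd n) s = _
  rw [MonoidAlgebra.mapDomain_single, MonoidAlgebra.single_mul_single]
  rfl

theorem induction_Tw (φ : M →+ M) {P : Tw R φ → Prop} (x : Tw R φ) (h0 : P 0)
    (hadd : ∀ a b, P a → P b → P (a + b)) (hs : ∀ m r, P (mono R φ m r)) : P x := by
  revert x
  suffices h : ∀ y : MonoidAlgebra R (Multiplicative M), P y from h
  intro y
  induction y using MonoidAlgebra.induction_linear with
  | zero => exact h0
  | add a b ha hb => exact hadd a b ha hb
  | single m r => exact hs (Multiplicative.toAdd m) r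

variable {E : Type} [Fintype E] (φ : M →+ M) (s : E → M)

/-- The candidate basis. -/
def comb : (E → MonoidAlgebra R (Multiplicative M)) →ₗ[MonoidAlgebra R (Multiplicative M)] Tw R φ :=
  Fintype.linearCombination (MonoidAlgebra R (Multiplicative M)) fun e => mono R φ (s e) 1

theorem comb_single [DecidableEq E] (e : E) (m : M) (r : R) :
    comb φ s (Pi.single e (MonoidAlgebra.single (Multiplicative.ofAdd m) r)) = mono R φ (φ m + s e) r := by
  rw [comb, Fintype.linearCombination_apply_single, single_smul_mono, _root_.mul_one]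

theorem comb_bijective (hσ : Function.Bijective fun p : E × M => φ p.2 + s p.1) :
    Function.Bijective (comb (R := R) φ s) := by
  classical
  let σ := Equiv.ofBijective _ hσ
  let Ψ : Tw R φ →+ (E → MonoidAlgebra R (Multiplicative M)) :=
    (Finsupp.liftAddHom fun n : Multiplicative M =>
      (AddMonoidHom.single (fun _ : E => MonoidAlgebra R (Multiplicative M)) (σ.symm n.toAdd).1).comp
        (AddMonoidHom.mk' (fun r : R => MonoidAlgebra.single (Multiplicative.ofAdd (σ.symm n.toAdd).2) r)
          fun a b => MonoidAlgebra.single_add _ a b)).comp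
      (AddMonoidHom.mk' (fun x : MonoidAlgebra R (Multiplicative M) => x.coeff) fun a b => MonoidAlgebra.coeff_add a b)
  have hΨ : ∀ n r, Ψ (mono R φ n r) =
      Pi.single (σ.symm n).1 (MonoidAlgebra.single (Multiplicative.ofAdd (σ.symm n).2) r) := fun n r => by
    show Finsupp.liftAddHom _ (MonoidAlgebra.single (Multiplicative.ofAdd n) r).coeff = _
    rw [MonoidAlgebra.coeff_single, Finsupp.liftAddHom_apply_single]
    rfl
  have h1 : ∀ v, Ψ (comb φ s v) = v := by
    suffices h : Ψ.comp (comb φ s).toAddMonoidHom = AddMonoidHom.id _ from fun v => DFunLike.congr_fun h v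
    refine AddMonoidHom.functions_ext _ _ _ fun e a => ?_
    show Ψ (comb φ s (Pi.single e a)) = Pi.single e a
    induction a using MonoidAlgebra.induction_linear with
    | zero => simp
    | add a b ha hb => rw [Pi.single_add, map_add, map_add, ha, hb]
    | single m r =>
      show Ψ (comb φ s (Pi.single e (MonoidAlgebra.single (Multiplicative.ofAdd (Multiplicative.toAdd m)) r))) = _
      rw [comb_single, hΨ, show σ.symm (φ (Multiplicative.toAdd m) + s e) = (e, Multiplicative.toAdd m) from
        σ.symm_apply_apply (e, Multiplicative.toAdd m)]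
      rfl
  refine ⟨Function.LeftInverse.injective h1, fun y => ⟨Ψ y, ?_⟩⟩
  induction y using induction_Tw with
  | h0 => simp
  | hadd a b ha hb => rw [map_add, map_add, ha, hb]
  | hs m r =>
    rw [hΨ, comb_single]
    exact congrArg (fun x => mono R φ x r) (σ.apply_symm_apply m)

theorem spec_map_powDeg [Nontrivial R] (hσ : Function.Bijective fun p : E × M => φ p.2 + s p.1) :
    Mor2.IsFinLocFreeOfDeg (Fintype.card E) (Spec.map (CommRingCat.ofHom
      (MonoidAlgebra.mapDomainAlgHom R R (AddMonoidHom.toMultiplicative φ)).toRingHom)) := by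
  let e := LinearEquiv.ofBijective (comb (R := R) φ s) (comb_bijective φ s hσ)
  haveI : Module.Free (MonoidAlgebra R (Multiplicative M)) (Tw R φ) := Module.Free.of_equiv e
  haveI : Module.Finite (MonoidAlgebra R (Multiplicative M)) (Tw R φ) := Module.Finite.equiv e
  let f := CommRingCat.ofHom (algebraMap (MonoidAlgebra R (Multiplicative M)) (Tw R φ))
  suffices h : Mor2.IsFinLocFreeOfDeg (Fintype.card E) (Spec.map f) from h
  refine ⟨⟨?_, ?_, ?_⟩, fun x => ?_⟩
  · rw [IsFinite.SpecMap_iff]
    exact RingHom.finite_algebraMap.2 inferInstance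
  · rw [Flat.SpecMap_iff]
    exact RingHom.flat_algebraMap_iff.2 inferInstance
  · rw [LocallyOfFinitePresentation.SpecMap_iff]
    haveI := Module.finitePresentation_of_projective (MonoidAlgebra R (Multiplicative M)) (Tw R φ)
    exact RingHom.finitePresentation_algebraMap.2 inferInstance
  · rw [Scheme.Hom.finrank_SpecMap_algebraMap, Module.rankAtStalk_eq_finrank_of_free, Pi.natCast_apply,
      ← e.finrank_eq, Module.finrank_pi]
    simp

/-- Multiplication by a nonzero integer on a lattice, with a system of representatives. -/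
theorem nsmul_bijective (r : ℕ) {N : ℕ} (hN : 0 < N) :
    Function.Bijective fun p : (Fin r → Fin N) × (Fin r → ℤ) =>
      (nsmulAddMonoidHom (α := Fin r → ℤ) N) p.2 + fun i => ((p.1 i : ℕ) : ℤ) := by
  have hN' : (N : ℤ) ≠ 0 := by exact_mod_cast hN.ne'
  constructor
  · rintro ⟨a, x⟩ ⟨b, y⟩ h
    have h1 : ∀ i, (N : ℤ) * x i + (a i : ℕ) = N * y i + (b i : ℕ) := fun i => by
      have := congrFun h i
      simpa [nsmul_eq_mul] using this
    have h2 : ∀ i, a i = b i ∧ x i = y i := fun i => by
      have ha := (a i).isLt
      have hb := (b i).isLt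
      have e := congrArg (· % (N : ℤ)) (h1 i)
      simp only [Int.mul_add_emod_self_left] at e
      rw [Int.emod_eq_of_lt (by omega) (by omega), Int.emod_eq_of_lt (by omega) (by omega)] at e
      refine ⟨Fin.ext (by omega), ?_⟩
      have := h1 i
      rw [e] at this
      exact mul_left_cancel₀ hN' (by linarith)
    exact Prod.ext (funext fun i => (h2 i).1) (funext fun i => (h2 i).2)
  · intro v
    refine ⟨(fun i => ⟨(v i % N).toNat, by
      have := Int.emod_lt_of_pos (v i) (show (0 : ℤ) < N by omega)
      have := Int.emod_nonneg (v i) hN'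
      omega⟩, fun i => v i / N), funext fun i => ?_⟩
    show (N • (fun i => v i / (N : ℤ))) i + (((v i % N).toNat : ℕ) : ℤ) = v i
    rw [Pi.smul_apply, nsmul_eq_mul, Int.toNat_of_nonneg (Int.emod_nonneg (v i) hN')]
    exact Int.mul_ediv_add_emod (v i) N

/-- Base change of a map of diagonalisable groups with finite cokernel. -/
theorem isFinLocFreeOfDeg_DSmap (S : Scheme.{u}) (r : ℕ) {N : ℕ} (hN : 0 < N) :
    Mor2.IsFinLocFreeOfDeg (N ^ r) (Red.DSmap S (nsmulAddMonoidHom (α := Fin r → ℤ) N)).left := by
  have h := spec_map_powDeg (R := ULift.{u} ℤ) (nsmulAddMonoidHom (α := Fin r → ℤ) N)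
    (fun (a : Fin r → Fin N) i => ((a i : ℕ) : ℤ)) (nsmul_bijective r hN)
  rw [Fintype.card_fun, Fintype.card_fin, Fintype.card_fin] at h
  obtain ⟨⟨h1, h2, h3⟩, h4⟩ := h
  have sq := FixedSmooth.isPullback_bc (Limits.IsTerminal.from specULiftZIsTerminal S)
    (Red.diagMap (ULift.{u} ℤ) (nsmulAddMonoidHom (α := Fin r → ℤ) N))
  haveI : IsFinite (Red.diagMap (ULift.{u} ℤ) (nsmulAddMonoidHom (α := Fin r → ℤ) N)).left := h1
  haveI : Flat (Red.diagMap (ULift.{u} ℤ) (nsmulAddMonoidHom (α := Fin r → ℤ) N)).left := h2
  refine ⟨⟨MorphismProperty.of_isPullback (P := @IsFinite) sq h1, MorphismProperty.of_isPullback (P := @Flat) sq h2,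
    MorphismProperty.of_isPullback (P := @LocallyOfFinitePresentation) sq h3⟩, fun y => ?_⟩
  exact (Scheme.Hom.finrank_of_isPullback _ _ _ _ sq y).trans (h4 _)

end Groth.Agent.TorusTorsLib
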