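import Groth.Agent.TorusTorsLib.PowMap
import Groth.Agent.MaxTorus.Basic
import Groth.Agent.SemiAbLib.Torus
import Groth.Agent.EtAlgEasy.MorFibre
import Groth.Agent.S9867

/-!
# The power maps of a torus over a field
-/

set_option autoImplicit false
set_option backward.isDefEq.respectTransparency false
set_option backward.isDefEq.respectTransparency.types false
set_option linter.style.haveILetI false
set_option maxHeartbeats 800000

universe u

open CategoryTheory CategoryTheory.Limits MonoidalCategory CartesianMonoidalCategory MonObj AlgebraicGeometry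

noncomputable section

namespace Groth.Agent.TorusTorsLib

variable {k : Type u} [Field k]

/-- The dimension of a split torus. -/
theorem dim_DS (K : Type u) [Field K] (r : ℕ) :
    topologicalKrullDim (Red.DS (Spec (CommRingCat.of K)) (Fin r → ℤ)).left = r := by
  obtain ⟨φ, hφ, -⟩ := SemiAbLib.exists_iso_open (K := K) r
  haveI := hφ
  let A := 𝔸(ULift.{u} (Fin r); Spec (CommRingCat.of K))
  let U : A.Opens := A.basicOpen (SemiAbLib.prodCoord (K := K) r)
  let i : A ≅ Spec (CommRingCat.of (MvPolynomial (ULift.{u} (Fin r)) K)) := AffineSpace.SpecIso (ULift.{u} (Fin r)) (CommRingCat.of K)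
  haveI : Nonempty A := ⟨i.inv (⟨⊥, Ideal.isPrime_bot⟩ : PrimeSpectrum (MvPolynomial (ULift.{u} (Fin r)) K))⟩
  haveI : AlgebraicGeometry.IsIntegral A := isIntegral_of_isOpenImmersion i.hom
  have hU : (U : Set A).Nonempty :=
    ⟨_, ((asIso φ).inv ((η[Red.DS (Spec (CommRingCat.of K)) (Fin r → ℤ)]).left (default : PrimeSpectrum K))).2⟩
  rw [← IsHomeomorph.topologicalKrullDim_eq _ (Scheme.homeoOfIso (asIso φ)).isHomeomorph]
  show topologicalKrullDim ↥U = _
  rw [DimFormulaLib.topologicalKrullDim_opens (A ↘ Spec (CommRingCat.of K)) U hU,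
    IsHomeomorph.topologicalKrullDim_eq _ (Scheme.homeoOfIso i).isHomeomorph,
    show topologicalKrullDim ↥(Spec (CommRingCat.of (MvPolynomial (ULift.{u} (Fin r)) K))) =
      ringKrullDim (MvPolynomial (ULift.{u} (Fin r)) K) from PrimeSpectrum.topologicalKrullDim_eq_ringKrullDim _,
    MvPolynomial.ringKrullDim_of_isNoetherianRing,
    ringKrullDim_eq_zero_of_field]
  simp

/-- The power maps of a torus are finite locally free. -/
theorem isFinLocFreeOfDeg_pow {T : Over (Spec (CommRingCat.of k))} [GrpObj T] (hT : Red.IsTorus T)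
    {t : ℕ} (ht : topologicalKrullDim ↥T.left = t) {N : ℕ} (hN : 0 < N) :
    Mor2.IsFinLocFreeOfDeg (N ^ t) ((𝟙 T) ^ N).left := by
  obtain ⟨K, _, g, r, ⟨e⟩⟩ := SemiAbLib.exists_split hT
  haveI : Surjective g := ⟨fun _ => ⟨default, Subsingleton.elim (α := PrimeSpectrum k) _ _⟩⟩
  haveI : Flat g := inferInstance
  haveI : QuasiCompact g := inferInstance
  let c : Red.bc g T ≅ Red.DS (Spec (CommRingCat.of K)) (Fin r → ℤ) := (Grp.forget _).mapIso e
  haveI : IsMonHom c.hom := e.hom.hom.isMonHom_hom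
  have hrt : r = t := by
    haveI : LocallyOfFiniteType T.hom := by
      have h : LocallyOfFiniteType (pullback.snd T.hom g) :=
        FixedSmooth.hom_of_grpIso (A := Red.bc g T) e @LocallyOfFiniteType
          (haveI := FixedSmooth.locallyOfFinitePresentation_DS (Spec (CommRingCat.of K)) (Fin r → ℤ)
            (Module.Finite.iff_addGroup_fg.1 inferInstance); inferInstance)
      exact MorphismProperty.of_isPullback_of_descendsAlong (P := @LocallyOfFiniteType)
        (Q := (@Surjective ⊓ @Flat ⊓ @QuasiCompact : MorphismProperty Scheme.{u}))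
        (IsPullback.of_hasPullback T.hom g).flip ⟨⟨‹_›, ‹_›⟩, ‹_›⟩ h
    have h1 := EtAlgEasy.MorFibre.topologicalKrullDim_baseChange (IsPullback.of_hasPullback T.hom g)
    rw [ht] at h1
    have h2 : topologicalKrullDim ↥(pullback T.hom g) = r :=
      (IsHomeomorph.topologicalKrullDim_eq _ (Scheme.homeoOfIso ((Over.forget _).mapIso c)).isHomeomorph).trans (dim_DS K r)
    exact_mod_cast h2.symm.trans h1
  subst hrt
  let D := Red.DS (Spec (CommRingCat.of K)) (Fin r → ℤ)
  have h0 := isFinLocFreeOfDeg_DSmap (Spec (CommRingCat.of K)) r hN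
  rw [MaxTorus.DSmap_nsmul] at h0
  have hmap : (Over.pullback g).map ((𝟙 T) ^ N) = (𝟙 (Red.bc g T)) ^ N := by
    rw [MaxTorus.map_pow_fun (G := Red.bc g T) (fun a : T ⟶ T => (Over.pullback g).map a) (Functor.map_one _)
      (fun a b => Functor.map_mul _ a b) (𝟙 T) N, CategoryTheory.Functor.map_id]
  have hc : (Over.pullback g).map ((𝟙 T) ^ N) ≫ c.hom = c.hom ≫ (𝟙 D) ^ N := by
    rw [hmap, MonObj.pow_comp, Category.id_comp, MonObj.comp_pow, Category.comp_id]
  have sq : IsPullback c.hom.left ((Over.pullback g).map ((𝟙 T) ^ N)).left ((𝟙 D) ^ N).left c.hom.left :=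
    IsPullback.of_horiz_isIso ⟨congrArg CommaMorphism.left hc.symm⟩
  haveI : IsFinite ((𝟙 D) ^ N).left := h0.1.1
  haveI : Flat ((𝟙 D) ^ N).left := h0.1.2.1
  have h1 : Mor2.IsFinLocFreeOfDeg (N ^ r) ((Over.pullback g).map ((𝟙 T) ^ N)).left :=
    ⟨⟨MorphismProperty.of_isPullback (P := @IsFinite) sq h0.1.1, MorphismProperty.of_isPullback (P := @Flat) sq h0.1.2.1,
      MorphismProperty.of_isPullback (P := @LocallyOfFinitePresentation) sq h0.1.2.2⟩,
      fun y => (Scheme.Hom.finrank_of_isPullback _ _ _ _ sq y).trans (h0.2 _)⟩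
  haveI := (S9867.result.{u}).2 (N ^ r)
  exact MorphismProperty.of_isPullback_of_descendsAlong
    (P := (fun _ _ f => Mor2.IsFinLocFreeOfDeg (N ^ r) f : MorphismProperty Scheme.{u}))
    (Q := (@Surjective ⊓ @Flat ⊓ @QuasiCompact : MorphismProperty Scheme.{u}))
    (FixedSmooth.isPullback_bc g ((𝟙 T) ^ N)).flip
    ⟨⟨MorphismProperty.pullback_fst (P := @Surjective) _ _ ‹_›, MorphismProperty.pullback_fst (P := @Flat) _ _ ‹_›⟩,
      MorphismProperty.pullback_fst (P := @QuasiCompact) _ _ ‹_›⟩ h1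

end Groth.Agent.TorusTorsLib
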